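import Mathlib

/-!
2-groups of exponent 4 with central involutions permuted transitively by automorphisms:
counting of square roots.
-/

set_option autoImplicit false
set_option linter.all false

namespace Cfsg.Agent.H29.Gam

open Subgroup

universe u

/-- exponent 4, involutions central and conjugate under automorphisms -/
structure Dat (D : Type u) [Group D] (E : Subgroup D) : Prop where
  sq : ∀ x, x ∈ E ↔ x * x = 1
  cen : ∀ e ∈ E, ∀ x, e * x = x * e
  h4 : ∀ x : D, x * x ∈ E
  tr : ∀ e ∈ E, ∀ f ∈ E, e ≠ 1 → f ≠ 1 → ∃ σ : MulAut D, σ e = f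

variable {D : Type u} [Group D] {E : Subgroup D}

/-- commutator -/
def c (x y : D) : D := x * y * x⁻¹ * y⁻¹

theorem mul_c (x y : D) : x * y = c x y * (y * x) := by unfold c; group

namespace Dat

variable (h : Dat D E)
include h

theorem c_mem (x y : D) : c x y ∈ E := by
  have h1 : c x y = (x * y) * (x * y) * (y⁻¹ * (x⁻¹ * x⁻¹) * y⁻¹) := by unfold c; group
  have h2 : y⁻¹ * (x⁻¹ * x⁻¹) * y⁻¹ = (x⁻¹ * x⁻¹) * (y⁻¹ * y⁻¹) := by
    rw [← h.cen _ (h.h4 x⁻¹), mul_assoc]
  rw [h1, h2]
  exact mul_mem (h.h4 _) (mul_mem (h.h4 _) (h.h4 _))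

theorem c_mul_right (x y z : D) : c x (y * z) = c x y * c x z := by
  have h1 : c x (y * z) = x * y * x⁻¹ * c x z * y⁻¹ := by unfold c; group
  rw [h1, mul_assoc, h.cen _ (h.c_mem x z), ← mul_assoc]
  rfl

theorem c_mul_left (x y z : D) : c (x * y) z = c x z * c y z := by
  have h1 : c (x * y) z = x * c y z * (z * x⁻¹ * z⁻¹) := by unfold c; group
  rw [h1, ← h.cen _ (h.c_mem y z), mul_assoc, h.cen _ (h.c_mem y z)]
  congr 1
  unfold c; group

theorem c_of_mem_right (x : D) {z : D} (hz : z ∈ E) : c x z = 1 := by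
  unfold c
  rw [← h.cen z hz x]; group

theorem c_of_mem_left {z : D} (hz : z ∈ E) (x : D) : c z x = 1 := by
  unfold c
  rw [h.cen z hz x]; group

theorem sq_mul (x w : D) : (x * w) * (x * w) = c w x * (x * x) * (w * w) := by
  have h1 : (x * w) * (x * w) = x * (w * x) * w := by group
  rw [h1, mul_c w x, ← mul_assoc x, ← h.cen _ (h.c_mem w x)]
  group

theorem sq_mul_of_mem (x : D) {z : D} (hz : z ∈ E) : (x * z) * (x * z) = x * x := by
  rw [h.sq_mul, h.c_of_mem_left hz, one_mul, (h.sq z).1 hz, mul_one]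

theorem normal : E.Normal := ⟨fun n hn g => by rw [← h.cen n hn g, mul_inv_cancel_right]; exact hn⟩

theorem mulAut_mem (σ : MulAut D) {x : D} (hx : x ∈ E) : σ x ∈ E := by
  rw [h.sq] at hx ⊢
  rw [← map_mul, hx, map_one]

/-- commutation with `w` as a homomorphism to `E` -/
def ph (w : D) : D →* E where
  toFun x := ⟨c w x, h.c_mem w x⟩
  map_one' := Subtype.ext (by unfold c; simp)
  map_mul' x y := Subtype.ext (h.c_mul_right w x y)

variable [Finite D]

/-- number of square roots is constant -/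
theorem card_roots {e f : D} (he : e ∈ E) (hf : f ∈ E) (he1 : e ≠ 1) (hf1 : f ≠ 1) :
    Nat.card {x : D // x * x = e} = Nat.card {x : D // x * x = f} := by
  obtain ⟨σ, hσ⟩ := h.tr e he f hf he1 hf1
  refine Nat.card_congr (σ.toEquiv.subtypeEquiv (fun x => ?_))
  change x * x = e ↔ σ x * σ x = f
  rw [← map_mul, ← hσ]
  exact (σ.injective.eq_iff).symm

/-- the set of radical elements -/
def rad (la : E →* ℂ) : Subgroup D where
  carrier := {w | ∀ x, la (h.ph w x) = 1}
  one_mem' := by
    intro x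
    have : h.ph 1 x = 1 := Subtype.ext (by change c 1 x = 1; unfold c; group)
    rw [this, map_one]
  mul_mem' := by
    intro a b ha hb x
    have : h.ph (a * b) x = h.ph a x * h.ph b x := Subtype.ext (h.c_mul_left a b x)
    rw [this, map_mul, ha x, hb x, one_mul]
  inv_mem' := by
    intro a ha x
    have : h.ph a x * h.ph a⁻¹ x = 1 := by
      apply Subtype.ext
      change c a x * c a⁻¹ x = 1
      rw [← h.c_mul_left, mul_inv_cancel]; unfold c; group
    have h1 := congrArg la this
    rw [map_mul, ha x, map_one, one_mul] at h1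
    exact h1

theorem le_rad (la : E →* ℂ) : E ≤ h.rad la := by
  intro w hw x
  have : h.ph w x = 1 := Subtype.ext (h.c_of_mem_left hw x)
  rw [this, map_one]

theorem la_sq (la : E →* ℂ) (e : E) : la e * la e = 1 := by
  rw [← map_mul]
  have : e * e = 1 := Subtype.ext ((h.sq _).1 e.2)
  rw [this, map_one]

open scoped Classical in
/-- the two evaluations of the Gauss sum -/
theorem gauss (la : E →* ℂ) (hla : la ≠ 1) {s : ℕ}
    (hs : ∀ e ∈ E, e ≠ 1 → Nat.card {x : D // x * x = e} = s) :
    ((Nat.card E : ℂ) - s) * ((Nat.card E : ℂ) - s) = Nat.card D * Nat.card (h.rad la) ∨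
    ((Nat.card E : ℂ) - s) = 0 := by
  classical
  haveI : Fintype D := Fintype.ofFinite D
  haveI : Fintype E := Fintype.ofFinite E
  haveI : Fintype (h.rad la) := Fintype.ofFinite _
  set sq : D → E := fun x => ⟨x * x, h.h4 x⟩ with hsq
  -- first evaluation
  have hT1 : ∑ x : D, la (sq x) = (Nat.card E : ℂ) - s := by
    rw [← Finset.sum_fiberwise (s := Finset.univ) (g := sq) (f := fun x => la (sq x))]
    have h1 : ∀ e : E, ∑ x ∈ Finset.univ.filter (fun x => sq x = e), la (sq x) =
        (if e = 1 then (Nat.card E : ℂ) - s else 0) + s * la e := by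
      intro e
      have h2 : ∑ x ∈ Finset.univ.filter (fun x => sq x = e), la (sq x) =
          ∑ x ∈ Finset.univ.filter (fun x => sq x = e), la e := by
        apply Finset.sum_congr rfl
        intro x hx
        rw [(Finset.mem_filter.1 hx).2]
      rw [h2, Finset.sum_const, nsmul_eq_mul]
      have h3 : (Finset.univ.filter (fun x => sq x = e)).card = Nat.card {x : D // x * x = (e : D)} := by
        rw [Nat.card_eq_fintype_card, Fintype.card_subtype]
        congr 1
        ext x
        simp only [Finset.mem_filter, Finset.mem_univ, true_and, hsq, Subtype.ext_iff]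
      rw [h3]
      by_cases he : e = 1
      · rw [if_pos he, he, map_one, mul_one, mul_one]
        have h4 : Nat.card {x : D // x * x = ((1 : E) : D)} = Nat.card E := by
          apply Nat.card_congr
          exact Equiv.subtypeEquivRight (fun x => (h.sq x).symm)
        rw [h4]; ring
      · rw [if_neg he, hs e e.2 (fun h' => he (Subtype.ext h')), zero_add]
    rw [Finset.sum_congr rfl (fun e _ => h1 e), Finset.sum_add_distrib, Finset.sum_ite_eq' Finset.univ,
      if_pos (Finset.mem_univ _), ← Finset.mul_sum, sum_hom_units la, if_neg hla]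
    simp
  -- second evaluation
  have hT2 : (∑ x : D, la (sq x)) * (∑ x : D, la (sq x)) =
      Nat.card D * ∑ w : h.rad la, la (sq w) := by
    have e1 : (∑ x : D, la (sq x)) * (∑ x : D, la (sq x)) =
        ∑ w : D, ∑ x : D, la (h.ph w x) * la (sq w) := by
      rw [Finset.sum_mul_sum, Finset.sum_comm (s := Finset.univ) (t := Finset.univ)
        (f := fun w x => la (h.ph w x) * la (sq w))]
      apply Finset.sum_congr rfl
      intro x _
      rw [← Equiv.sum_comp (Equiv.mulLeft x) (fun y => la (sq x) * la (sq y))]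
      apply Finset.sum_congr rfl
      intro w _
      have e2 : sq ((Equiv.mulLeft x) w) = h.ph w x * sq x * sq w := Subtype.ext (h.sq_mul x w)
      rw [e2, map_mul, map_mul]
      have := h.la_sq la (sq x)
      linear_combination (la (h.ph w x) * la (sq w)) * this
    rw [e1]
    have e3 : ∀ w : D, ∑ x : D, la (h.ph w x) * la (sq w) =
        if w ∈ h.rad la then (Nat.card D : ℂ) * la (sq w) else 0 := by
      intro w
      rw [← Finset.sum_mul]
      have e4 : ∑ x : D, la (h.ph w x) = ∑ x : D, (la.comp (h.ph w)) x := rfl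
      rw [e4, sum_hom_units (la.comp (h.ph w))]
      by_cases hw : w ∈ h.rad la
      · have e5 : la.comp (h.ph w) = 1 := by
          ext x
          exact hw x
        rw [if_pos e5, if_pos hw, Nat.card_eq_fintype_card]
      · have e5 : ¬ (la.comp (h.ph w) = 1) := by
          intro h5
          apply hw
          intro x
          exact DFunLike.congr_fun h5 x
        rw [if_neg e5, if_neg hw]
        simp
    rw [Finset.sum_congr rfl (fun w _ => e3 w), ← Finset.sum_filter, Finset.mul_sum]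
    refine Finset.sum_subtype _ ?_ _
    intro x
    simp
  -- the character on the radical
  let ch : h.rad la →* ℂ :=
    { toFun := fun w => la (sq w)
      map_one' := by
        have : sq ((1 : h.rad la) : D) = 1 := Subtype.ext (by change (1 : D) * 1 = 1; rw [mul_one])
        rw [this, map_one]
      map_mul' := by
        intro a b
        have e2 : sq ((a * b : h.rad la) : D) = h.ph b a * sq a * sq b := Subtype.ext (h.sq_mul a b)
        rw [e2, map_mul, map_mul, b.2 a, one_mul] }
  have hT3 : ∑ w : h.rad la, la (sq w) = ∑ w : h.rad la, ch w := rfl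
  rw [hT1, hT3, sum_hom_units ch] at hT2
  by_cases hch : ch = 1
  · left
    rw [if_pos hch] at hT2
    rw [hT2, Nat.card_eq_fintype_card (α := h.rad la)]
  · right
    rw [if_neg hch] at hT2
    have : ((Nat.card E : ℂ) - s) * ((Nat.card E : ℂ) - s) = 0 := by rw [hT2]; simp
    exact mul_self_eq_zero.1 this

/-- every proper subgroup of `E` is killed by a nontrivial character -/
theorem exists_la {I : Subgroup E} (hI : I ≠ ⊤) : ∃ la : E →* ℂ, la ≠ 1 ∧ ∀ x ∈ I, la x = 1 := by
  classical
  letI : CommGroup E := { (inferInstance : Group E) with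
    mul_comm := fun a b => Subtype.ext (h.cen a a.2 b) }
  haveI : Nontrivial (E ⧸ I) := QuotientGroup.nontrivial_iff.2 hI
  obtain ⟨a, ha⟩ := exists_ne (1 : E ⧸ I)
  obtain ⟨φ, hφ⟩ := CommGroup.exists_apply_ne_one_of_hasEnoughRootsOfUnity (E ⧸ I) ℂ ha
  refine ⟨((Units.coeHom ℂ).comp φ).comp (QuotientGroup.mk' I), ?_, ?_⟩
  · intro h1
    obtain ⟨b, rfl⟩ := QuotientGroup.mk'_surjective I a
    have h2 := DFunLike.congr_fun h1 b
    apply hφ
    exact Units.ext h2
  · intro x hx
    have : QuotientGroup.mk' I x = 1 := (QuotientGroup.eq_one_iff _).2 hx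
    change ((φ (QuotientGroup.mk' I x) : ℂˣ) : ℂ) = 1
    rw [this, map_one]; rfl

end Dat

/-- uniqueness of a binary expansion -/
theorem nt {m c k : ℕ} (hm : 1 ≤ m) (h : 2 ^ k + 2 ^ c = 2 ^ (m + c) + 2 ^ m) : c = m := by
  rcases lt_trichotomy c m with hlt | heq | hgt
  · exfalso
    obtain ⟨a, rfl⟩ : ∃ a, m = c + 1 + a := ⟨m - (c + 1), by omega⟩
    have h0 : 2 ^ (c + 1 + a + c) + 2 ^ (c + 1 + a) = 2 ^ c * (2 * (2 ^ a * 2 ^ c + 2 ^ a)) := by ring
    rw [h0] at h
    have hp : 0 < 2 ^ c := by positivity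
    have ha : 1 ≤ 2 ^ a := Nat.one_le_two_pow
    rcases lt_trichotomy k c with hk | rfl | hk
    · obtain ⟨b, rfl⟩ : ∃ b, c = k + 1 + b := ⟨c - (k + 1), by omega⟩
      have h1 : 2 ^ k * (1 + 2 * 2 ^ b) = 2 ^ k * (2 * (2 ^ b * (2 * (2 ^ a * 2 ^ (k + 1 + b) + 2 ^ a)))) := by
        calc 2 ^ k * (1 + 2 * 2 ^ b) = 2 ^ k + 2 ^ (k + 1 + b) := by ring
          _ = 2 ^ (k + 1 + b) * (2 * (2 ^ a * 2 ^ (k + 1 + b) + 2 ^ a)) := h
          _ = _ := by ring
      have h2 := Nat.eq_of_mul_eq_mul_left (by positivity) h1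
      omega
    · have h1 : 2 ^ k * 2 = 2 ^ k * (2 * (2 ^ a * 2 ^ k + 2 ^ a)) := by rw [← h]; ring
      have h2 := Nat.eq_of_mul_eq_mul_left (by positivity) h1
      have h3 : 1 ≤ 2 ^ a * 2 ^ k := Nat.mul_pos (by positivity) (by positivity)
      omega
    · obtain ⟨b, rfl⟩ : ∃ b, k = c + 1 + b := ⟨k - (c + 1), by omega⟩
      have h1 : 2 ^ c * (2 * 2 ^ b + 1) = 2 ^ c * (2 * (2 ^ a * 2 ^ c + 2 ^ a)) := by rw [← h]; ring
      have h2 := Nat.eq_of_mul_eq_mul_left (by positivity) h1
      omega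
  · exact heq
  · exfalso
    obtain ⟨a, rfl⟩ : ∃ a, c = m + 1 + a := ⟨c - (m + 1), by omega⟩
    rcases lt_trichotomy k m with hk | rfl | hk
    · obtain ⟨b, rfl⟩ : ∃ b, m = k + 1 + b := ⟨m - (k + 1), by omega⟩
      have h1 : 2 ^ k * (1 + 2 * (2 ^ b * (2 * 2 ^ a))) =
          2 ^ k * (2 * (2 ^ b * 2 ^ (k + 1 + b + 1 + a) + 2 ^ b)) := by
        calc 2 ^ k * (1 + 2 * (2 ^ b * (2 * 2 ^ a))) = 2 ^ k + 2 ^ (k + 1 + b + 1 + a) := by ring
          _ = 2 ^ (k + 1 + b + (k + 1 + b + 1 + a)) + 2 ^ (k + 1 + b) := h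
          _ = _ := by ring
      have h2 := Nat.eq_of_mul_eq_mul_left (by positivity) h1
      omega
    · have h1 : 2 ^ (k + 1 + a) = 2 ^ (k + (k + 1 + a)) := by omega
      have h2 := Nat.pow_right_injective (le_refl 2) h1
      omega
    · obtain ⟨b, rfl⟩ : ∃ b, k = m + 1 + b := ⟨k - (m + 1), by omega⟩
      have h1 : 2 ^ m * (2 * (2 ^ b + 2 ^ a)) = 2 ^ m * (2 * (2 ^ m * 2 ^ a) + 1) := by
        calc 2 ^ m * (2 * (2 ^ b + 2 ^ a)) = 2 ^ (m + 1 + b) + 2 ^ (m + 1 + a) := by ring
          _ = 2 ^ (m + (m + 1 + a)) + 2 ^ m := h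
          _ = _ := by ring
      have h2 := Nat.eq_of_mul_eq_mul_left (by positivity) h1
      omega

end Cfsg.Agent.H29.Gam
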