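import Cfsg.Agent.H29.Gam1

/-!
2-groups of exponent 4 with central involutions permuted transitively: the three cases.
-/

set_option autoImplicit false
set_option linter.all false

namespace Cfsg.Agent.H29.Gam

open Subgroup

universe u

variable {D : Type u} [Group D] {E : Subgroup D}

namespace Dat

variable (h : Dat D E)
include h

theorem isPGroup : IsPGroup 2 D := by
  intro g
  refine ⟨2, ?_⟩
  have h1 := (h.sq _).1 (h.h4 g)
  rw [show (2 : ℕ) ^ 2 = 4 from rfl, show g ^ 4 = g * g * (g * g) by simp only [pow_succ, pow_zero, one_mul, mul_assoc]]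
  exact h1

variable [Finite D]

theorem card_eq {s : ℕ} (hs : ∀ e ∈ E, e ≠ 1 → Nat.card {x : D // x * x = e} = s) :
    Nat.card D = Nat.card E + (Nat.card E - 1) * s := by
  classical
  haveI : Fintype D := Fintype.ofFinite D
  haveI : Fintype E := Fintype.ofFinite E
  set sq : D → E := fun x => ⟨x * x, h.h4 x⟩ with hsq
  have h1 : Fintype.card D = ∑ e : E, (Finset.univ.filter (fun x => sq x = e)).card := by
    rw [← Finset.card_univ]
    exact Finset.card_eq_sum_card_fiberwise (fun x _ => Finset.mem_univ _)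
  have h3 : ∀ e : E, (Finset.univ.filter (fun x => sq x = e)).card = Nat.card {x : D // x * x = (e : D)} := by
    intro e
    rw [Nat.card_eq_fintype_card, Fintype.card_subtype]
    congr 1
    ext x
    simp only [Finset.mem_filter, Finset.mem_univ, true_and, hsq, Subtype.ext_iff]
  have h4 : Nat.card {x : D // x * x = ((1 : E) : D)} = Nat.card E := by
    apply Nat.card_congr
    exact Equiv.subtypeEquivRight (fun x => (h.sq x).symm)
  rw [Nat.card_eq_fintype_card, h1, ← Finset.sum_erase_add _ _ (Finset.mem_univ (1 : E)), h3, h4, add_comm]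
  congr 1
  have h5 : ∀ e ∈ Finset.univ.erase (1 : E), (Finset.univ.filter (fun x => sq x = e)).card = s := by
    intro e he
    rw [h3]
    exact hs e e.2 (fun h' => (Finset.mem_erase.1 he).1 (Subtype.ext h'))
  rw [Finset.sum_congr rfl h5, Finset.sum_const, Finset.card_erase_of_mem (Finset.mem_univ _), Finset.card_univ,
    smul_eq_mul, Nat.card_eq_fintype_card]

theorem tri : Nat.card D = Nat.card E ∨
    (∀ e ∈ E, e ≠ 1 → Nat.card {x : D // x * x = e} = Nat.card E) ∨
    ((∀ e ∈ E, e ≠ 1 → Nat.card {x : D // x * x = e} = Nat.card E * (Nat.card E + 1)) ∧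
      Nat.card D = Nat.card E ^ 3 ∧ 1 < Nat.card E ∧ ∀ la : E →* ℂ, la ≠ 1 → h.rad la = E) := by
  classical
  haveI : Fact (Nat.Prime 2) := ⟨Nat.prime_two⟩
  by_cases hE1 : E = ⊥
  · left
    have : E = ⊤ := by
      rw [eq_top_iff]
      intro x _
      rw [h.sq]
      have := h.h4 x
      rw [hE1] at this
      exact this
    rw [this, Subgroup.card_top]
  obtain ⟨e0, he0, he01⟩ := (Subgroup.ne_bot_iff_exists_ne_one (H := E)).1 hE1 |>.elim (fun a ha => (⟨a, a.2, fun h' => ha (Subtype.ext h')⟩ : ∃ e0 ∈ E, e0 ≠ 1))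
  obtain ⟨s, hs0⟩ : ∃ s, Nat.card {x : D // x * x = e0} = s := ⟨_, rfl⟩
  have hs : ∀ e ∈ E, e ≠ 1 → Nat.card {x : D // x * x = e} = s := fun e he he1 => by
    rw [← hs0]; exact h.card_roots he he0 he1 he01
  have hcard := h.card_eq hs
  obtain ⟨d, hd⟩ := IsPGroup.iff_card.1 h.isPGroup
  obtain ⟨m, hm⟩ := IsPGroup.iff_card.1 (h.isPGroup.to_subgroup E)
  have hm1 : 1 ≤ m := by
    by_contra h0
    have h0' : m = 0 := by omega
    rw [h0', pow_zero] at hm
    exact hE1 (Subgroup.card_eq_one.1 hm)
  by_cases hsE : s = Nat.card E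
  · right; left
    intro e he he1
    rw [hs e he he1, hsE]
  have hne : ((Nat.card E : ℂ) - s) ≠ 0 := by
    intro h0
    apply hsE
    have : (s : ℂ) = (Nat.card E : ℂ) := by linear_combination -h0
    exact_mod_cast this
  have hg : ∀ la : E →* ℂ, la ≠ 1 →
      ((Nat.card E : ℤ) - s) * ((Nat.card E : ℤ) - s) = Nat.card D * Nat.card (h.rad la) := by
    intro la hla
    rcases h.gauss la hla hs with h1 | h1
    · exact_mod_cast h1
    · exact absurd h1 hne
  obtain ⟨la0, hla0, -⟩ := h.exists_la (I := ⊥) (by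
    intro h0
    apply hE1
    have h1 : Nat.card (⊥ : Subgroup E) = Nat.card (⊤ : Subgroup E) := by rw [h0]
    rw [Subgroup.card_bot, Subgroup.card_top] at h1
    exact Subgroup.card_eq_one.1 h1.symm)
  have hEp : 0 < Nat.card E := Nat.card_pos
  have hradE : ∀ la : E →* ℂ, Nat.card E ≤ Nat.card (h.rad la) := fun la => Subgroup.card_le_of_le (h.le_rad la)
  have hDE : Nat.card E ≤ Nat.card D := Nat.le_of_dvd Nat.card_pos (Subgroup.card_subgroup_dvd_card E)
  rcases lt_or_gt_of_ne hsE with hlt | hgt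
  · left
    have h1 := hg la0 hla0
    have h2 : (Nat.card E - s) * (Nat.card E - s) = Nat.card D * Nat.card (h.rad la0) := by
      zify [hlt.le]
      exact h1
    have h3 : Nat.card E * Nat.card E ≤ (Nat.card E - s) * (Nat.card E - s) := by
      rw [h2]; exact Nat.mul_le_mul hDE (hradE la0)
    have h4 : s = 0 := by
      by_contra h5
      have h6 : Nat.card E - s < Nat.card E := by omega
      have h7 := Nat.mul_lt_mul'' h6 h6
      omega
    rw [hcard, h4, mul_zero, add_zero]
  · right; right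
    obtain ⟨t, ht⟩ : ∃ t, s = Nat.card E + t := ⟨s - Nat.card E, by omega⟩
    have ht0 : 0 < t := by omega
    have htt : ∀ la : E →* ℂ, la ≠ 1 → t * t = Nat.card D * Nat.card (h.rad la) := by
      intro la hla
      have h1 := hg la hla
      rw [ht] at h1
      push_cast at h1
      zify
      linarith
    have h2 := htt la0 hla0
    obtain ⟨b, hb⟩ := IsPGroup.iff_card.1 (h.isPGroup.to_subgroup (h.rad la0))
    have hbm : m ≤ b := by
      have := hradE la0
      rw [hm, hb] at this
      exact (Nat.pow_le_pow_iff_right (by norm_num)).1 this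
    have hdm : m ≤ d := by
      rw [hm, hd] at hDE
      exact (Nat.pow_le_pow_iff_right (by norm_num)).1 hDE
    rw [hd, hb, ← pow_add] at h2
    obtain ⟨u, -, hu⟩ := (Nat.dvd_prime_pow Nat.prime_two).1 (Dvd.intro t h2)
    have h3 : 2 * u = d + b := by
      rw [hu, ← pow_add] at h2
      have := Nat.pow_right_injective (le_refl 2) h2
      omega
    obtain ⟨cc, hcc⟩ : ∃ cc, u = m + cc := ⟨u - m, by omega⟩
    obtain ⟨k, hk⟩ : ∃ k, d = m + k := ⟨d - m, by omega⟩
    have h4 : 2 ^ k + 2 ^ cc = 2 ^ (m + cc) + 2 ^ m := by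
      rw [hd, hm, ht, hm, hu, hcc, hk] at hcard
      have h5 : 2 ^ m * (2 ^ k + 2 ^ cc) = 2 ^ m * (2 ^ (m + cc) + 2 ^ m) := by
        have h6 : (2 : ℤ) ^ (m + k) = 2 ^ m + (2 ^ m - 1) * (2 ^ m + 2 ^ (m + cc)) := by
          have h7 : 1 ≤ 2 ^ m := Nat.one_le_two_pow
          zify [h7] at hcard
          exact hcard
        zify
        rw [pow_add] at h6
        rw [pow_add] at h6 ⊢
        linear_combination h6
      exact Nat.eq_of_mul_eq_mul_left (by positivity) h5
    have h5 : cc = m := nt hm1 h4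
    rw [h5] at h4 hcc
    have h6 : k = m + m := Nat.pow_right_injective (le_refl 2) (by dsimp only; omega)
    have hDcard : Nat.card D = Nat.card E ^ 3 := by
      rw [hd, hm, hk, h6, ← pow_mul]; congr 1; ring
    refine ⟨?_, hDcard, ?_, ?_⟩
    · intro e he he1
      rw [hs e he he1, ht, hu, hcc, hm, pow_add]; ring
    · rw [hm]; exact Nat.one_lt_two_pow (by omega)
    · intro la hla
      symm
      apply Subgroup.eq_of_le_of_card_ge (h.le_rad la)
      have h7 := htt la hla
      rw [hu, hcc, hDcard, hm] at h7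
      rw [hm]
      have h8 : (2 ^ m) ^ 3 * Nat.card (h.rad la) = (2 ^ m) ^ 3 * 2 ^ m := by
        rw [← h7]; ring
      exact (Nat.eq_of_mul_eq_mul_left (by positivity) h8).le

/-- third case: surjectivity of commutation -/
theorem card_ker (hrad : ∀ la : E →* ℂ, la ≠ 1 → h.rad la = E) (hD : Nat.card D = Nat.card E ^ 3)
    {w : D} (hw : w ∉ E) : Nat.card (h.ph w).ker = Nat.card E ^ 2 := by
  have h1 : (h.ph w).range = ⊤ := by
    by_contra hne
    obtain ⟨la, hla, hI⟩ := h.exists_la hne
    apply hw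
    rw [← hrad la hla]
    intro x
    exact hI _ ⟨x, rfl⟩
  have h2 : Nat.card (h.ph w).ker * (h.ph w).ker.index = Nat.card D := Subgroup.card_mul_index _
  rw [Subgroup.index_ker, h1, Subgroup.card_top, hD] at h2
  have h3 : 0 < Nat.card E := Nat.card_pos
  apply Nat.eq_of_mul_eq_mul_right h3
  rw [h2]; ring

end Dat

end Cfsg.Agent.H29.Gam
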