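import Cfsg.Agent.S1137
import Cfsg.Agent.S1138

set_option autoImplicit false
set_option linter.all false

namespace Cfsg.Agent.H29.Pyr

open Subgroup

universe u

theorem p4 {D : Type u} [Group D] [Finite D] (hD : IsPGroup 2 D) (E : Subgroup D) (hE : ∀ x, x ∈ E ↔ x * x = 1)
    {p : ℕ} (hp : p.Prime) (h4 : 4 ≤ Nat.card E) (σ : MulAut D) (hσp : σ ^ p = 1)
    (htr : ∀ x ∈ E, ∀ y ∈ E, x ≠ 1 → y ≠ 1 → ∃ i : ℕ, (σ ^ i) x = y) (hna : ∃ x y : D, x * y ≠ y * x) :
    ∀ x : D, x * x ∈ E := by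
  classical
  obtain ⟨e1, he1, e2, he2, h12⟩ : ∃ e1 : E, e1 ≠ 1 ∧ ∃ e2 : E, e2 ≠ 1 ∧ e1 ≠ e2 := by
    have h2 : 2 < Nat.card E := by omega
    haveI : Fintype E := Fintype.ofFinite E
    rw [Nat.card_eq_fintype_card] at h2
    obtain ⟨a, b, c, hab, hac, hbc⟩ := Fintype.two_lt_card_iff.1 h2
    by_cases ha : a = 1
    · exact ⟨b, fun hb => hab (ha.trans hb.symm), c, fun hc => hac (ha.trans hc.symm), hbc⟩
    · by_cases hb : b = 1
      · exact ⟨a, ha, c, fun hc => hbc (hb.trans hc.symm), hac⟩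
      · exact ⟨a, ha, b, hb, hab⟩
  have he1' : (e1 : D) ≠ 1 := fun h => he1 (Subtype.ext h)
  have he2' : (e2 : D) ≠ 1 := fun h => he2 (Subtype.ext h)
  have h12' : (e1 : D) ≠ e2 := fun h => h12 (Subtype.ext h)
  have hS : Cfsg.IsSuzukiTwoGroup D := by
    refine ⟨inferInstance, hD, hna, ⟨e1, e2, h12', he1', (hE _).1 e1.2, he2', (hE _).1 e2.2⟩,
      Subgroup.zpowers σ, inferInstance, ?_⟩
    intro x y hx hx2 hy hy2
    have hxE := (hE x).2 hx2
    have hyE := (hE y).2 hy2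
    obtain ⟨i, hi⟩ := htr x hxE y hyE hx hy
    refine ⟨⟨σ ^ i, Subgroup.npow_mem_zpowers σ i⟩, hi, ?_⟩
    intro k hk
    by_contra hne
    -- the quotient fixes x and generates
    set τ : MulAut D := (σ ^ i)⁻¹ * k with hτ
    have hτx : τ x = x := by
      change (σ ^ i)⁻¹ ((k : MulAut D) x) = x
      rw [show (k : MulAut D) x = y from hk, ← hi, MulAut.inv_apply_self]
    have hτ1 : τ ≠ 1 := by
      intro h
      apply hne
      apply Subtype.ext
      change (k : MulAut D) = σ ^ i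
      rw [hτ, inv_mul_eq_one] at h; exact h.symm
    obtain ⟨j, hj⟩ := k.2
    have hτz : τ = σ ^ (j - i : ℤ) := by
      have h7 : (k : MulAut D) = σ ^ j := hj.symm
      rw [hτ, h7, ← zpow_natCast, ← zpow_neg, ← zpow_add]; congr 1; ring
    -- σ is a power of τ
    have hcop : ∃ m : ℤ, τ ^ m = σ := by
      have hnd : ¬ (p : ℤ) ∣ (j - i) := by
        rintro ⟨c, hc⟩
        apply hτ1
        rw [hτz, hc, zpow_mul, zpow_natCast, hσp, one_zpow]
      have hg : IsCoprime (p : ℤ) (j - i) := (Prime.coprime_iff_not_dvd (Nat.prime_iff_prime_int.1 hp)).2 hnd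
      obtain ⟨a, b, hab⟩ := hg
      refine ⟨b, ?_⟩
      rw [hτz, ← zpow_mul]
      have : (j - i : ℤ) * b = 1 - (p : ℤ) * a := by linarith
      rw [this, zpow_sub, zpow_one, zpow_mul, zpow_natCast, hσp, one_zpow, inv_one, mul_one]
    obtain ⟨m, hm⟩ := hcop
    have hfix : ∀ ρ : MulAut D, ρ x = x → ∀ n : ℕ, (ρ ^ n) x = x := by
      intro ρ hρ n
      induction n with
      | zero => rfl
      | succ n ih => rw [pow_succ, MulAut.mul_apply, hρ, ih]
    have hσx : σ x = x := by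
      rw [← hm]
      have hst : τ ∈ MulAction.stabilizer (MulAut D) x := hτx
      exact (zpow_mem hst m : τ ^ m ∈ MulAction.stabilizer (MulAut D) x)
    have hall : ∀ z ∈ E, z ≠ 1 → z = x := by
      intro z hz hz1
      obtain ⟨n, hn⟩ := htr x hxE z hz hx hz1
      rw [← hn, hfix σ hσx n]
    exact h12' ((hall _ e1.2 he1').trans (hall _ e2.2 he2').symm)
  intro x
  rw [hE]
  exact (Cfsg.Agent.S1137.result hS).2 _ ((Cfsg.Agent.S1138.result hS).1 x)

end Cfsg.Agent.H29.Pyr
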