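import Cfsg.Agent.H29.PyrP3
import Cfsg.Agent.H29.PyrP4

set_option autoImplicit false
set_option linter.all false

namespace Cfsg.Agent.H29.Pyr

open Subgroup Cfsg.Agent.H29.Gam

universe u

/-- automorphism of `Q ≤ C` induced by an element of the big group -/
theorem exists_aut {G : Type u} [Group G] (C : Subgroup G) (Q : Subgroup C) {n : G}
    (hn : n ∈ normalizer ((Q.map C.subtype : Subgroup G) : Set G)) :
    ∃ σ : MulAut Q, ∀ y : Q, (((σ y : Q) : C) : G) = n * ((y : C) : G) * n⁻¹ := by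
  set Q' := Q.map C.subtype with hQ'
  set e : Q ≃* Q' := Q.equivMapOfInjective C.subtype C.subtype_injective with he
  refine ⟨(e.trans (Q'.normalizerMonoidHom ⟨n, hn⟩)).trans e.symm, ?_⟩
  intro y
  have h1 : ∀ z : Q', (((e.symm z : Q) : C) : G) = (z : G) := by
    intro z
    have := Subgroup.coe_equivMapOfInjective_apply Q C.subtype C.subtype_injective (e.symm z)
    rw [← he, MulEquiv.apply_symm_apply] at this
    exact this.symm
  have h2 : ((e y : Q') : G) = ((y : C) : G) := Subgroup.coe_equivMapOfInjective_apply Q C.subtype C.subtype_injective y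
  change (((e.symm ((Q'.normalizerMonoidHom ⟨n, hn⟩) (e y)) : Q) : C) : G) = _
  rw [h1]
  change n * ((e y : Q') : G) * n⁻¹ = _
  rw [h2]

def HBs : Prop := ∀ {P : Type u} [Group P] [Finite P] (hP : IsPGroup 2 P) (E : Subgroup P) (hE : ∀ x, x ∈ E ↔ x * x = 1)
    {p : ℕ} (hp : p.Prime) (hcard : Nat.card E = p + 1) (h4 : 4 ≤ Nat.card E) (h : MulAut P)
    (hh : ∃ j, orderOf h = p ^ j)
    (htr : ∀ x ∈ E, ∀ y ∈ E, x ≠ 1 → y ≠ 1 → ∃ i : ℕ, (h ^ i) x = y), h ^ p = 1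

def P1s : Prop := ∀ {C : Type u} [Group C] [Finite C] (Z : Subgroup C) (hZc : Z ≤ Subgroup.center C) (Q : Sylow 2 C)
    (hZQ : Z ≤ (Q : Subgroup C)) (hab : ∀ x ∈ Q, ∀ y ∈ Q, x * y * x⁻¹ * y⁻¹ ∈ Z)
    (hn : ∀ n ∈ Subgroup.normalizer ((Q : Subgroup C) : Set C), ∀ x ∈ Q, n * x * n⁻¹ * x⁻¹ ∈ Z), Group.IsSolvable C

def P1bs : Prop := ∀ {C : Type u} [Group C] [Finite C] (E : Subgroup C) (hE : ∀ x : C, x ∈ E ↔ x * x = 1)
    (hEc : E ≤ Subgroup.center C) (Q : Sylow 2 C) (hab : ∀ x ∈ Q, ∀ y ∈ Q, x * y = y * x), Group.IsSolvable C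

def P6s : Prop := ∀ {G : Type u} [Group G] [Finite G] (hO : ∀ N : Subgroup G, N.Normal → Odd (Nat.card N) → N = ⊥)
    (C E : Subgroup G) [C.Normal] (hEC : E ≤ C) (hcen : ∀ c ∈ C, ∀ e ∈ E, c * e = e * c) (hE2 : IsPGroup 2 E)
    [(E.subgroupOf C).Normal] (N : Subgroup (C ⧸ E.subgroupOf C)) (hN : N.Normal) (hodd : Odd (Nat.card N)), N = ⊥

def P6bs : Prop := ∀ {G : Type u} [Group G] [Finite G] (E : Subgroup G) {p : ℕ} (hp : p.Prime)
    (hcard : Nat.card E = p + 1) (N : Subgroup G)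
    (htr : ∀ x ∈ E, ∀ y ∈ E, x ≠ 1 → y ≠ 1 → ∃ g ∈ N, g * x * g⁻¹ = y) (hEN : ∀ g ∈ N, ∀ x ∈ E, g * x * g⁻¹ ∈ E)
    (h3 : 3 ≤ p), ∃ h ∈ N, (∃ j, orderOf h = p ^ j) ∧
      ∀ x ∈ E, ∀ y ∈ E, x ≠ 1 → y ≠ 1 → ∃ i : ℕ, h ^ i * x * (h ^ i)⁻¹ = y

theorem csol0 (HB : HBs.{u}) (P1 : P1s.{u}) (P1b : P1bs.{u}) (P6 : P6s.{u}) (P6b : P6bs.{u})
    {G : Type u} [Group G] [Finite G] (E : Subgroup G) [E.Normal] (hE : ∀ x : G, x ∈ E ↔ x * x = 1) {p m : ℕ}
    (hp : p.Prime) (hm : 2 ≤ m) (hcard : Nat.card E = 2 ^ m) (hpm : p + 1 = 2 ^ m)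
    (htr : ∀ x ∈ E, ∀ y ∈ E, x ≠ 1 → y ≠ 1 → ∃ g : G, g * x * g⁻¹ = y)
    (hO : ∀ N : Subgroup G, N.Normal → Odd (Nat.card N) → N = ⊥) :
    Group.IsSolvable (Subgroup.centralizer (E : Set G)) := by
  classical
  haveI := fact2
  set C := Subgroup.centralizer (E : Set G) with hC
  have hcen : ∀ c ∈ C, ∀ e ∈ E, c * e = e * c := fun c hc e he => (Subgroup.mem_centralizer_iff.1 hc e he).symm
  haveI hCn : C.Normal := by
    rw [hC]; infer_instance
  have h4E : 4 ≤ Nat.card E := by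
    rw [hcard]
    calc 4 = 2 ^ 2 := rfl
      _ ≤ 2 ^ m := Nat.pow_le_pow_right (by norm_num) hm
  have hEcomm : ∀ a ∈ E, ∀ b ∈ E, a * b = b * a := by
    intro a ha b hb
    have h1 := (hE _).1 (mul_mem ha hb)
    have h2 := (hE a).1 ha
    have h3 := (hE b).1 hb
    have ha' : a⁻¹ = a := inv_eq_of_mul_eq_one_left h2
    have hb' : b⁻¹ = b := inv_eq_of_mul_eq_one_left h3
    have : (a * b)⁻¹ = a * b := inv_eq_of_mul_eq_one_left h1
    rw [mul_inv_rev, ha', hb'] at this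
    exact this.symm
  have hEC : E ≤ C := fun e he => Subgroup.mem_centralizer_iff.2 (fun f hf => hEcomm f hf e he)
  set EC : Subgroup C := E.subgroupOf C with hECdef
  haveI hECn : EC.Normal := by rw [hECdef]; infer_instance
  have hECm : ∀ x : C, x ∈ EC ↔ x * x = 1 := by
    intro x
    rw [hECdef, Subgroup.mem_subgroupOf, hE]
    exact ⟨fun h => Subtype.ext h, fun h => congrArg Subtype.val h⟩
  have hECc : ∀ e ∈ EC, ∀ x, e * x = x * e := fun e he x => Subtype.ext (hcen x x.2 e he).symm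
  have hECle : EC ≤ Subgroup.center C := fun e he => Subgroup.mem_center_iff.2 (fun x => (hECc e he x).symm)
  obtain ⟨Q⟩ : Nonempty (Sylow 2 C) := inferInstance
  have hEp : IsPGroup 2 EC := by
    intro x
    refine ⟨1, ?_⟩
    have := (hECm (x : C)).1 x.2
    apply Subtype.ext
    rw [pow_one, pow_two]; exact this
  have hEQ : EC ≤ (Q : Subgroup C) := by
    have h1 : IsPGroup 2 ((Q : Subgroup C) ⊔ EC : Subgroup C) :=
      IsPGroup.to_sup_of_normal_right Q.2 hEp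
    have h2 := Q.3 h1 le_sup_left
    rw [← h2]; exact le_sup_right
  by_cases hab : ∀ x ∈ Q, ∀ y ∈ Q, x * y = y * x
  · exact P1b EC hECm hECle Q hab
  -- transitivity of the normalizer
  set Q' := (Q : Subgroup C).map C.subtype with hQ'
  have hfrat : normalizer (Q' : Set G) ⊔ C = ⊤ := Sylow.normalizer_sup_eq_top Q
  have htrN : ∀ x ∈ E, ∀ y ∈ E, x ≠ 1 → y ≠ 1 → ∃ g ∈ normalizer (Q' : Set G), g * x * g⁻¹ = y := by
    intro x hx y hy hx1 hy1
    obtain ⟨g, hg⟩ := htr x hx y hy hx1 hy1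
    have h1 : g ∈ normalizer (Q' : Set G) ⊔ C := by rw [hfrat]; trivial
    obtain ⟨n, hn, c, hc, rfl⟩ := Subgroup.mem_sup_of_normal_right.1 h1
    refine ⟨n, hn, ?_⟩
    rw [← hg]
    have h2 := hcen c hc x hx
    calc n * x * n⁻¹ = n * (x * c) * c⁻¹ * n⁻¹ := by group
      _ = n * c * x * (n * c)⁻¹ := by rw [← h2]; group
  have hcp : Nat.card E = p + 1 := by rw [hcard, hpm]
  obtain ⟨n, hn, ⟨j, hj⟩, hntr⟩ := P6b E hp hcp (normalizer (Q' : Set G)) htrN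
    (fun g _ x hx => (inferInstance : E.Normal).conj_mem x hx g) (by omega)
  obtain ⟨σ, hσ⟩ := exists_aut C (Q : Subgroup C) hn
  have hσk : ∀ (k : ℕ) (y : ↥(Q : Subgroup C)), ((((σ ^ k) y : ↥(Q : Subgroup C)) : C) : G) = n ^ k * ((y : C) : G) * (n ^ k)⁻¹ := by
    intro k y
    induction k with
    | zero => simp
    | succ k ih => rw [pow_succ', MulAut.mul_apply, hσ, ih, pow_succ']; group
  set EQ : Subgroup ↥(Q : Subgroup C) := EC.subgroupOf (Q : Subgroup C) with hEQdef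
  have hEQm : ∀ x, x ∈ EQ ↔ x * x = 1 := by
    intro x
    rw [hEQdef, Subgroup.mem_subgroupOf, hECm]
    exact ⟨fun h => Subtype.ext h, fun h => congrArg Subtype.val h⟩
  have hcEQ : Nat.card EQ = Nat.card E := by
    rw [hEQdef, Nat.card_congr (Subgroup.subgroupOfEquivOfLe hEQ).toEquiv, hECdef,
      Nat.card_congr (Subgroup.subgroupOfEquivOfLe hEC).toEquiv]
  have hσord : ∃ j, orderOf σ = p ^ j := by
    have h1 : orderOf σ ∣ p ^ j := by
      rw [orderOf_dvd_iff_pow_eq_one]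
      ext y
      have := hσk (p ^ j) y
      rw [this, ← hj, pow_orderOf_eq_one]; simp
    obtain ⟨i, -, hi⟩ := (Nat.dvd_prime_pow hp).1 h1
    exact ⟨i, hi⟩
  have hσtr : ∀ x ∈ EQ, ∀ y ∈ EQ, x ≠ 1 → y ≠ 1 → ∃ i : ℕ, (σ ^ i) x = y := by
    intro x hx y hy hx1 hy1
    obtain ⟨i, hi⟩ := hntr ((x : C) : G) hx ((y : C) : G) hy
      (fun h => hx1 (Subtype.ext (Subtype.ext h))) (fun h => hy1 (Subtype.ext (Subtype.ext h)))
    refine ⟨i, ?_⟩
    apply Subtype.ext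
    apply Subtype.ext
    rw [hσk, hi]
  have hσp : σ ^ p = 1 := HB Q.2 EQ hEQm hp (by rw [hcEQ, hcp]) (by rw [hcEQ]; exact h4E) σ hσord hσtr
  have hna : ∃ x y : ↥(Q : Subgroup C), x * y ≠ y * x := by
    push Not at hab
    obtain ⟨x, hx, y, hy, hxy⟩ := hab
    exact ⟨⟨x, hx⟩, ⟨y, hy⟩, fun h => hxy (congrArg Subtype.val h)⟩
  have hsq : ∀ x : ↥(Q : Subgroup C), x * x ∈ EQ :=
    p4 Q.2 EQ hEQm hp (by rw [hcEQ]; exact h4E) σ hσp hσtr hna
  have hDat : Dat ↥(Q : Subgroup C) EQ :=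
    ⟨hEQm, fun e he x => Subtype.ext (hECc _ he _), hsq, fun e he f hf he1 hf1 => by
      obtain ⟨i, hi⟩ := hσtr e he f hf he1 hf1
      exact ⟨σ ^ i, hi⟩⟩
  rcases hDat.tri with h1 | h1 | ⟨hc, hD, hE1, hrad⟩
  · exfalso
    have hT : EQ = ⊤ := Subgroup.eq_top_of_card_eq EQ h1.symm
    obtain ⟨x, y, hxy⟩ := hna
    exact hxy (hDat.cen x (by rw [hT]; trivial) y)
  · refine P1 EC hECle Q hEQ (fun x hx y hy => ?_) (fun n hn x hx => ?_)
    · exact hDat.c_mem ⟨x, hx⟩ ⟨y, hy⟩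
    · have hyQ : n * x * n⁻¹ ∈ (Q : Subgroup C) := (Subgroup.mem_normalizer_iff.1 hn x).1 hx
      have hxE : x * x ∈ EC := hsq ⟨x, hx⟩
      have hy2 : (n * x * n⁻¹) * (n * x * n⁻¹) = x * x := by
        have : (n * x * n⁻¹) * (n * x * n⁻¹) = n * (x * x) * n⁻¹ := by group
        rw [this, ← hECc _ hxE n]; group
      by_cases hxE' : x ∈ EC
      · have : n * x * n⁻¹ * x⁻¹ = 1 := by rw [← hECc _ hxE' n]; group
        rw [this]; exact one_mem _
      · set xq : ↥(Q : Subgroup C) := ⟨x, hx⟩ with hxq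
        have hx1 : xq * xq ≠ 1 := fun h' => hxE' ((hEQm xq).2 h')
        let f : EQ → {y : ↥(Q : Subgroup C) // y * y = xq * xq} := fun z => ⟨xq * z, hDat.sq_mul_of_mem xq z.2⟩
        have hf : Function.Injective f := by
          intro a b hab
          exact Subtype.ext (mul_left_cancel (congrArg Subtype.val hab))
        have hfs := ((Nat.bijective_iff_injective_and_card f).2 ⟨hf, (h1 _ (hsq xq) hx1).symm⟩).2
        obtain ⟨z, hz⟩ := hfs ⟨⟨n * x * n⁻¹, hyQ⟩, Subtype.ext hy2⟩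
        have hz' : x * ((z : ↥(Q : Subgroup C)) : C) = n * x * n⁻¹ :=
          congrArg (fun t : {y : ↥(Q : Subgroup C) // y * y = xq * xq} => ((t : ↥(Q : Subgroup C)) : C)) hz
        have hzE : ((z : ↥(Q : Subgroup C)) : C) ∈ EC := z.2
        rw [← hz', ← hECc _ hzE x, mul_assoc, mul_inv_cancel, mul_one]
        exact hzE
  · have h4' : 4 ≤ Nat.card EC := by
      rw [hECdef, Nat.card_congr (Subgroup.subgroupOfEquivOfLe hEC).toEquiv]; exact h4E
    refine p3 EC hECm hECc h4' Q hEQ hDat hc hD hrad ?_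
    intro N hN hodd
    refine P6 hO C E hEC hcen ?_ N hN hodd
    intro x
    refine ⟨1, ?_⟩
    have := (hE (x : G)).1 x.2
    apply Subtype.ext
    rw [pow_one, pow_two]; exact this

end Cfsg.Agent.H29.Pyr
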