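import Cfsg.Agent.H29.Gam2

set_option autoImplicit false
set_option linter.all false

namespace Cfsg.Agent.H29.Gam

open Subgroup

universe u

variable {D : Type u} [Group D] {E : Subgroup D}

namespace Dat

variable (h : Dat D E)
include h

/-- `d ↦ d⁻¹ σ(d)` modulo `E` -/
def fh [E.Normal] (σ : MulAut D) : D →* D ⧸ E where
  toFun d := QuotientGroup.mk (d⁻¹ * σ d)
  map_one' := by simp
  map_mul' a b := by
    have h1 : (a * b)⁻¹ * σ (a * b) = b⁻¹ * (a⁻¹ * σ a) * b * (b⁻¹ * σ b) := by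
      rw [map_mul]; group
    rw [h1, QuotientGroup.mk_mul]
    congr 1
    rw [QuotientGroup.eq]
    have h2 : (b⁻¹ * (a⁻¹ * σ a) * b)⁻¹ * (a⁻¹ * σ a) = c (b⁻¹) ((a⁻¹ * σ a)⁻¹) := by unfold c; group
    rw [h2]
    exact h.c_mem _ _

variable [Finite D]

theorem fpf (hD : Nat.card D = Nat.card E ^ 3) (hrad : ∀ la : E →* ℂ, la ≠ 1 → h.rad la = E)
    (σ : MulAut D) (hσE : ∀ e ∈ E, σ e = e) {n : ℕ} (hn : Odd n) (hσn : ∀ x, (σ ^ n) x = x)
    {v : D} (hvE : v ∉ E) (hv : v⁻¹ * σ v ∈ E) : ∀ x, x⁻¹ * σ x ∈ E := by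
  classical
  haveI hEn : E.Normal := h.normal
  set f := h.fh σ with hf
  have hfmem : ∀ d, d ∈ f.ker ↔ d⁻¹ * σ d ∈ E := by
    intro d
    rw [MonoidHom.mem_ker]
    change ((d⁻¹ * σ d : D) : D ⧸ E) = 1 ↔ _
    rw [QuotientGroup.eq_one_iff]
  set W : Subgroup D := f.range.comap (QuotientGroup.mk' E) with hW
  have hcom : ∀ a ∈ f.ker, ∀ w ∈ W, c a w = 1 := by
    intro a ha w hw
    rw [hfmem] at ha
    obtain ⟨d, hd⟩ := hw
    change ((d⁻¹ * σ d : D) : D ⧸ E) = (w : D ⧸ E) at hd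
    rw [QuotientGroup.eq] at hd
    have h1 : w = d⁻¹ * σ d * ((d⁻¹ * σ d)⁻¹ * w) := by group
    rw [h1, h.c_mul_right, h.c_of_mem_right a hd, mul_one, h.c_mul_right]
    have h2 : c a (σ d) = c a d := by
      have h3 : c (σ a) (σ d) = c a d := by
        have h4 : c (σ a) (σ d) = σ (c a d) := by unfold c; simp only [map_mul, map_inv]
        rw [h4]; exact hσE _ (h.c_mem a d)
      have h5 : σ a = a * (a⁻¹ * σ a) := by group
      rw [h5, h.c_mul_left, h.c_of_mem_left ha, mul_one] at h3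
      exact h3
    rw [h2, ← h.c_mul_right, inv_mul_cancel]
    unfold c; group
  let σb : D ⧸ E →* D ⧸ E := QuotientGroup.map E E σ.toMonoidHom (by
    intro e he
    change σ e ∈ E
    rw [hσE e he]; exact he)
  have hσb : ∀ d : D, σb (d : D ⧸ E) = ((σ d : D) : D ⧸ E) := fun d => rfl
  have hcap : ∀ a ∈ f.ker, a ∈ W → a ∈ E := by
    intro a ha hw
    rw [hfmem] at ha
    obtain ⟨d, hd⟩ := hw
    change ((d⁻¹ * σ d : D) : D ⧸ E) = (a : D ⧸ E) at hd
    have h1 : σb (a : D ⧸ E) = (a : D ⧸ E) := by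
      rw [hσb, eq_comm, QuotientGroup.eq]; exact ha
    have h2 : σb (d : D ⧸ E) = (d : D ⧸ E) * (a : D ⧸ E) := by
      rw [hσb, ← hd, ← QuotientGroup.mk_mul]; congr 1; group
    have h3 : ∀ k : ℕ, (((σ ^ k) d : D) : D ⧸ E) = (d : D ⧸ E) * (a : D ⧸ E) ^ k := by
      intro k
      induction k with
      | zero => simp
      | succ k ih =>
        rw [pow_succ', MulAut.mul_apply, ← hσb, ih, map_mul, map_pow, h1, h2, mul_assoc, ← pow_succ']
    have h4 := h3 n
    rw [hσn d] at h4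
    have h5 : (a : D ⧸ E) ^ n = 1 := by
      have := congrArg (fun y => (d : D ⧸ E)⁻¹ * y) h4
      simpa using this.symm
    obtain ⟨k, hk⟩ := hn
    have h6 : (a : D ⧸ E) ^ 2 = 1 := by
      rw [← QuotientGroup.mk_pow, QuotientGroup.eq_one_iff, pow_two]; exact h.h4 a
    rw [hk, pow_succ, pow_mul, h6, one_pow, one_mul] at h5
    rwa [QuotientGroup.eq_one_iff] at h5
  have hcard1 : Nat.card f.ker * Nat.card f.range = Nat.card D := by
    rw [← Subgroup.index_ker f]; exact Subgroup.card_mul_index _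
  have hcard2 : Nat.card W = Nat.card E * Nat.card f.range := by
    rw [hW]
    have h1 := Subgroup.card_mul_index (f.range.comap (QuotientGroup.mk' E))
    have h2 := Subgroup.index_comap_of_surjective f.range (QuotientGroup.mk'_surjective E)
    have h3 := Subgroup.card_mul_index f.range
    have h4 := Subgroup.card_mul_index E
    rw [h2] at h1
    have h5 : 0 < f.range.index := Nat.pos_of_ne_zero Subgroup.index_ne_zero_of_finite
    apply Nat.eq_of_mul_eq_mul_right h5
    rw [h1, mul_assoc, h3, ← h4]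
    rfl
  have hq : 0 < Nat.card E := Nat.card_pos
  have hprod : Nat.card f.ker * Nat.card W = Nat.card E ^ 4 := by
    rw [hcard2]
    calc Nat.card f.ker * (Nat.card E * Nat.card f.range)
        = Nat.card E * (Nat.card f.ker * Nat.card f.range) := by ring
      _ = Nat.card E ^ 4 := by rw [hcard1, hD]; ring
  have hlt : ∀ (w : D) (K : Subgroup D), w ∉ E → w ∉ K → (∀ a ∈ K, c w a = 1) → Nat.card K < Nat.card E ^ 2 := by
    intro w K hwE hwK hK
    rw [← h.card_ker hrad hD hwE]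
    have h1 : K < (h.ph w).ker := by
      refine lt_of_le_of_ne (fun a ha => ?_) (fun he => hwK ?_)
      · rw [MonoidHom.mem_ker]; exact Subtype.ext (hK a ha)
      · rw [he, MonoidHom.mem_ker]; exact Subtype.ext (by change c w w = 1; unfold c; group)
    have h2 : (K : Set D) ⊂ ((h.ph w).ker : Set D) := h1
    exact Set.ncard_lt_ncard h2 (Set.toFinite _)
  have hvC : v ∈ f.ker := (hfmem v).2 hv
  have hWlt : Nat.card W < Nat.card E ^ 2 :=
    hlt v W hvE (fun hw => hvE (hcap v hvC hw)) (fun a ha => hcom v hvC a ha)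
  intro x
  by_contra hx
  have hw : x⁻¹ * σ x ∈ W := ⟨x, rfl⟩
  have hClt : Nat.card f.ker < Nat.card E ^ 2 := by
    refine hlt _ f.ker hx (fun hk => hx (hcap _ hk hw)) (fun a ha => ?_)
    have h1 := hcom a ha _ hw
    have h2 : c (x⁻¹ * σ x) a = (c a (x⁻¹ * σ x))⁻¹ := by unfold c; group
    rw [h2, h1, inv_one]
  have h1 : Nat.card f.ker * Nat.card W < Nat.card E ^ 2 * Nat.card E ^ 2 :=
    Nat.mul_lt_mul'' hClt hWlt
  rw [hprod] at h1
  have : Nat.card E ^ 2 * Nat.card E ^ 2 = Nat.card E ^ 4 := by ring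
  omega

end Dat

end Cfsg.Agent.H29.Gam
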