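import Cfsg.Agent.H29.PyrP1

set_option autoImplicit false
set_option linter.all false

namespace Cfsg.Agent.H29.Pyr

open Subgroup

universe u

/-- an odd power trivial automorphism of an abelian 2-group trivial on involutions is trivial -/
theorem aut_abelian {D : Type u} [Group D] [Finite D] (hD : IsPGroup 2 D) (hab : ∀ x y : D, x * y = y * x)
    (b : MulAut D) {n : ℕ} (hn : Odd n) (hbn : ∀ x, (b ^ n) x = x) (hb : ∀ x, x * x = 1 → b x = x) :
    ∀ x, b x = x := by
  classical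
  haveI := fact2
  let f : D →* D :=
    { toFun := fun x => x⁻¹ * b x
      map_one' := by simp
      map_mul' := fun x y => by
        rw [map_mul, mul_inv_rev]
        calc y⁻¹ * x⁻¹ * (b x * b y) = (y⁻¹ * (x⁻¹ * b x)) * b y := by group
          _ = ((x⁻¹ * b x) * y⁻¹) * b y := by rw [hab (y⁻¹)]
          _ = (x⁻¹ * b x) * (y⁻¹ * b y) := by group }
  intro x
  by_contra hx
  have hc : f x ≠ 1 := by
    intro h
    apply hx
    change x⁻¹ * b x = 1 at h
    rw [inv_mul_eq_one] at h; exact h.symm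
  obtain ⟨k, hk⟩ := IsPGroup.iff_orderOf.1 hD (f x)
  have hk0 : k ≠ 0 := by
    intro h
    rw [h, pow_zero, orderOf_eq_one_iff] at hk
    exact hc hk
  obtain ⟨j, rfl⟩ := Nat.exists_eq_succ_of_ne_zero hk0
  obtain ⟨y, hy⟩ : ∃ y, y = x ^ 2 ^ j := ⟨_, rfl⟩
  obtain ⟨z, hz⟩ : ∃ z, z = f y := ⟨_, rfl⟩
  have hzc : z = (f x) ^ 2 ^ j := by rw [hz, hy, map_pow]
  have hz2 : z * z = 1 := by
    rw [hzc, ← pow_add]
    have : 2 ^ j + 2 ^ j = 2 ^ (j + 1) := by ring
    rw [this, ← hk, pow_orderOf_eq_one]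
  have hz1 : z ≠ 1 := by
    rw [hzc]
    intro h
    have h1 := orderOf_dvd_of_pow_eq_one h
    rw [hk] at h1
    have h2 := (Nat.pow_dvd_pow_iff_le_right (by norm_num : 1 < 2)).1 h1
    omega
  have hbz : b z = z := hb z hz2
  have hby : b y = y * z := by
    rw [hz]
    change b y = y * (y⁻¹ * b y); group
  have h3 : ∀ i : ℕ, (b ^ i) y = y * z ^ i := by
    intro i
    induction i with
    | zero => simp
    | succ i ih => rw [pow_succ', MulAut.mul_apply, ih, map_mul, map_pow, hbz, hby, pow_succ' z, mul_assoc]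
  have h4 := h3 n
  rw [hbn] at h4
  have h5 : z ^ n = 1 := by
    have h6 : y * 1 = y * z ^ n := by rw [mul_one]; exact h4
    exact (mul_left_cancel h6).symm
  obtain ⟨m, hm⟩ := hn
  have h6 : z ^ 2 = 1 := by rw [pow_two]; exact hz2
  rw [hm, pow_succ, pow_mul, h6, one_pow, one_mul] at h5
  exact hz1 h5

theorem p1b {C : Type u} [Group C] [Finite C] (E : Subgroup C) (hE : ∀ x : C, x ∈ E ↔ x * x = 1)
    (hEc : E ≤ Subgroup.center C) (Q : Sylow 2 C) (hab : ∀ x ∈ Q, ∀ y ∈ Q, x * y = y * x) : Group.IsSolvable C := by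
  classical
  haveI := fact2
  apply solv_of_burnside Q
  intro n hn
  rw [Subgroup.mem_centralizer_iff]
  intro x hx
  set σ : MulAut ↥(Q : Subgroup C) := (Q : Subgroup C).normalizerMonoidHom ⟨n, hn⟩ with hσ
  have hσa : ∀ y : ↥(Q : Subgroup C), ((σ y : ↥(Q : Subgroup C)) : C) = n * y * n⁻¹ := fun y => rfl
  have hσp : ∀ (k : ℕ) (y : ↥(Q : Subgroup C)), (((σ ^ k) y : ↥(Q : Subgroup C)) : C) = n ^ k * y * (n ^ k)⁻¹ := by
    intro k y
    induction k with
    | zero => simp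
    | succ k ih => rw [pow_succ', MulAut.mul_apply, hσa, ih, pow_succ']; group
  obtain ⟨a, k, hk, hord⟩ := Nat.exists_eq_two_pow_mul_odd (orderOf_pos n).ne'
  have hnk : n ^ k ∈ (Q : Subgroup C) := by
    have h1 : IsPGroup 2 (Subgroup.zpowers (n ^ k)) := by
      rw [IsPGroup.iff_card]
      refine ⟨a, ?_⟩
      rw [Nat.card_zpowers, orderOf_pow' n (Nat.pos_of_ne_zero (by rintro rfl; exact absurd hk (by decide))).ne', hord,
        Nat.gcd_eq_right (Dvd.intro_left _ rfl), Nat.mul_div_cancel _ (Nat.pos_of_ne_zero (by rintro rfl; exact absurd hk (by decide)))]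
    have h2 : n ^ k ∈ Subgroup.zpowers (n ^ k) ⊓ normalizer ((Q : Subgroup C) : Set C) :=
      ⟨Subgroup.mem_zpowers _, pow_mem hn k⟩
    exact ((SetLike.ext_iff.1 (h1.inf_normalizer_sylow Q) (n ^ k)).1 h2).2
  have key := aut_abelian Q.2 (fun x y => Subtype.ext (hab _ x.2 _ y.2)) σ hk (fun y => by
    apply Subtype.ext
    rw [hσp, hab _ hnk _ y.2]; group) (fun y hy => by
    apply Subtype.ext
    have h1 : (y : C) ∈ E := (hE _).2 (congrArg Subtype.val hy)
    have h2 := Subgroup.mem_center_iff.1 (hEc h1) n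
    rw [hσa, h2]; group) ⟨x, hx⟩
  have h5 : n * x * n⁻¹ = x := congrArg Subtype.val key
  exact (mul_inv_eq_iff_eq_mul.1 h5).symm

end Cfsg.Agent.H29.Pyr
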