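import Cfsg.Agent.H29.PyrCS1
import Cfsg.Agent.H29.PyrP1b
import Cfsg.Agent.H22W.PyrHB
import Cfsg.Agent.H86.PyrP6
import Cfsg.Agent.H33.PyrP5

set_option autoImplicit false
set_option linter.all false

namespace Cfsg.Agent.H29.Pyr

universe u

theorem csol {G : Type u} [Group G] [Finite G] (E : Subgroup G) [E.Normal] (hE : ∀ x : G, x ∈ E ↔ x * x = 1)
    {p m : ℕ} (hp : p.Prime) (hm : 2 ≤ m) (hcard : Nat.card E = 2 ^ m) (hpm : p + 1 = 2 ^ m)
    (htr : ∀ x ∈ E, ∀ y ∈ E, x ≠ 1 → y ≠ 1 → ∃ g : G, g * x * g⁻¹ = y) :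
    Group.IsSolvable (Subgroup.centralizer (E : Set G)) := by
  refine Cfsg.Agent.H33.PyrP5.p5 m hm ?_ E hE hcard htr
  intro G' _ _ E' _ hE' hc' htr' hO'
  have HB : HBs.{u} := by
    intro P _ _ hP E hE p hp hcard h4 h hh htr
    exact Cfsg.Agent.H22W.HB.hb hP E hE hp hcard h4 h hh htr
  have P1 : P1s.{u} := by
    intro C _ _ Z hZc Q hZQ hab hn
    exact p1 Z hZc Q hZQ hab hn
  have P1b : P1bs.{u} := by
    intro C _ _ E hE hEc Q hab
    exact p1b E hE hEc Q hab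
  have P6 : P6s.{u} := by
    intro G _ _ hO C E _ hEC hcen hE2 _ N hN hodd
    exact Cfsg.Agent.H86.PyrP6.p6 hO C E hEC hcen hE2 N hN hodd
  have P6b : P6bs.{u} := by
    intro G _ _ E p hp hcard N htr hEN h3
    exact Cfsg.Agent.H86.PyrP6.p6b E hp hcard N htr hEN h3
  exact csol0 HB P1 P1b P6 P6b E' hE' hp hm hc' hpm htr' hO'

end Cfsg.Agent.H29.Pyr
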