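import Cfsg.Agent.H29.PyrP3

set_option autoImplicit false
set_option linter.all false

namespace Cfsg.Agent.H29.Pyr

open Subgroup

universe u

/-- Burnside + Feit-Thompson -/
theorem solv_of_burnside {X : Type u} [Group X] [Finite X] (V : Sylow 2 X)
    (hV : normalizer ((V : Subgroup X) : Set X) ≤ centralizer ((V : Subgroup X) : Set X)) : Group.IsSolvable X := by
  haveI := fact2
  haveI h6 : Group.IsSolvable (MonoidHom.transferSylow V hV).ker := by
    apply Cfsg.Agent.FT.solvable_of_odd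
    rw [← Nat.not_even_iff_odd, even_iff_two_dvd]
    exact MonoidHom.not_dvd_card_ker_transferSylow V hV
  haveI h7 : Group.IsSolvable V := by
    haveI := V.2.isNilpotent
    infer_instance
  refine Group.isSolvable_of_ker_le_range (MonoidHom.transferSylow V hV).ker.subtype
    (MonoidHom.transferSylow V hV) ?_
  rw [Subgroup.range_subtype]

theorem p1 {C : Type u} [Group C] [Finite C] (Z : Subgroup C) (hZc : Z ≤ Subgroup.center C) (Q : Sylow 2 C)
    (hZQ : Z ≤ (Q : Subgroup C)) (hab : ∀ x ∈ Q, ∀ y ∈ Q, x * y * x⁻¹ * y⁻¹ ∈ Z)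
    (hn : ∀ n ∈ Subgroup.normalizer ((Q : Subgroup C) : Set C), ∀ x ∈ Q, n * x * n⁻¹ * x⁻¹ ∈ Z) :
    Group.IsSolvable C := by
  classical
  haveI := fact2
  have hZc' : ∀ e ∈ Z, ∀ x, e * x = x * e := fun e he x => (Subgroup.mem_center_iff.1 (hZc he) x).symm
  haveI hZn : Z.Normal := ⟨fun e he g => by rw [← hZc' e he g, mul_inv_cancel_right]; exact he⟩
  set π := QuotientGroup.mk' Z with hπ
  have hπs : Function.Surjective π := QuotientGroup.mk'_surjective Z
  set V : Sylow 2 (C ⧸ Z) := Q.mapSurjective hπs with hVdef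
  have hVc : (V : Subgroup (C ⧸ Z)) = (Q : Subgroup C).map π := Sylow.coe_mapSurjective hπs Q
  have hker : ∀ x : C, π x = 1 ↔ x ∈ Z := fun x => by
    rw [hπ]; exact QuotientGroup.eq_one_iff x
  have hcomap : (V : Subgroup (C ⧸ Z)).comap π = Q := by
    rw [hVc]
    apply Subgroup.comap_map_eq_self
    rw [hπ, QuotientGroup.ker_mk']; exact hZQ
  have hQmem : ∀ x : C, π x ∈ (V : Subgroup (C ⧸ Z)) ↔ x ∈ (Q : Subgroup C) := by
    intro x
    have : x ∈ (V : Subgroup (C ⧸ Z)).comap π ↔ x ∈ (Q : Subgroup C) := by rw [hcomap]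
    exact this
  apply solv_of_central Z hZc'
  apply solv_of_burnside V
  intro xb hxb
  obtain ⟨x, rfl⟩ := hπs xb
  have hxn : x ∈ normalizer ((Q : Subgroup C) : Set C) := by
    rw [Subgroup.mem_normalizer_iff] at hxb ⊢
    intro y
    have h1 := hxb (π y)
    rw [← map_inv, ← map_mul, ← map_mul] at h1
    have h2 := hQmem y
    have h3 := hQmem (x * y * x⁻¹)
    exact ⟨fun hy => h3.1 (h1.1 (h2.2 hy)), fun hy => h2.1 (h1.2 (h3.2 hy))⟩
  rw [Subgroup.mem_centralizer_iff]
  intro vb hvb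
  rw [hVc] at hvb
  obtain ⟨v, hv, rfl⟩ := hvb
  have h5 := hn x hxn v hv
  rw [← hker] at h5
  simp only [map_mul, map_inv] at h5
  have h6 : π x * π v * (π x)⁻¹ = π v := mul_inv_eq_one.1 h5
  exact (mul_inv_eq_iff_eq_mul.1 h6).symm

end Cfsg.Agent.H29.Pyr
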