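import Cfsg.Agent.H29.PyrFpf
import Cfsg.Agent.H34.PyrCS2
import Cfsg.Agent.FT.Base

set_option autoImplicit false
set_option linter.all false

namespace Cfsg.Agent.H29.Pyr

open Subgroup Cfsg.Agent.H29.Gam

universe u

theorem fact2 : Fact (Nat.Prime 2) := ⟨Nat.prime_two⟩

theorem card_comap_mk {C : Type u} [Group C] [Finite C] (E : Subgroup C) [E.Normal] (K : Subgroup (C ⧸ E)) :
    Nat.card (K.comap (QuotientGroup.mk' E)) = Nat.card E * Nat.card K := by
  have h1 := Subgroup.card_mul_index (K.comap (QuotientGroup.mk' E))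
  have h2 := Subgroup.index_comap_of_surjective K (QuotientGroup.mk'_surjective E)
  have h3 := Subgroup.card_mul_index K
  have h4 := Subgroup.card_mul_index E
  rw [h2] at h1
  have h5 : 0 < K.index := Nat.pos_of_ne_zero Subgroup.index_ne_zero_of_finite
  apply Nat.eq_of_mul_eq_mul_right h5
  rw [h1, mul_assoc, h3, ← h4]
  rfl

/-- normal Sylow 2-subgroup implies solvable -/
theorem solv_of_normal_sylow {X : Type u} [Group X] [Finite X] (V : Sylow 2 X) (hV : (V : Subgroup X).Normal) :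
    Group.IsSolvable X := by
  haveI := fact2
  haveI := hV
  haveI h1 : Group.IsSolvable (V : Subgroup X) := by
    haveI := V.2.isNilpotent
    infer_instance
  haveI h2 : Group.IsSolvable (X ⧸ (V : Subgroup X)) := by
    apply Cfsg.Agent.FT.solvable_of_odd
    rw [← Nat.not_even_iff_odd, even_iff_two_dvd]
    exact V.not_dvd_index
  refine Group.isSolvable_of_ker_le_range (V : Subgroup X).subtype (QuotientGroup.mk' (V : Subgroup X)) ?_
  rw [Subgroup.range_subtype, QuotientGroup.ker_mk']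

theorem solv_of_central {C : Type u} [Group C] (E : Subgroup C) [E.Normal] (hEc : ∀ e ∈ E, ∀ x, e * x = x * e)
    (h : Group.IsSolvable (C ⧸ E)) : Group.IsSolvable C := by
  haveI := h
  haveI h1 : Group.IsSolvable E := Group.isSolvable_of_comm (fun a b => Subtype.ext (hEc _ a.2 _))
  refine Group.isSolvable_of_ker_le_range E.subtype (QuotientGroup.mk' E) ?_
  rw [Subgroup.range_subtype, QuotientGroup.ker_mk']

theorem p3 {C : Type u} [Group C] [Finite C] (E : Subgroup C) [E.Normal] (hE : ∀ x, x ∈ E ↔ x * x = 1)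
    (hEc : ∀ e ∈ E, ∀ x, e * x = x * e) (h4 : 4 ≤ Nat.card E) (Q : Sylow 2 C) (hEQ : E ≤ (Q : Subgroup C))
    (h : Dat ↥(Q : Subgroup C) (E.subgroupOf (Q : Subgroup C)))
    (hs : ∀ e ∈ E.subgroupOf (Q : Subgroup C), e ≠ 1 → Nat.card {x : ↥(Q : Subgroup C) // x * x = e} =
      Nat.card (E.subgroupOf (Q : Subgroup C)) * (Nat.card (E.subgroupOf (Q : Subgroup C)) + 1))
    (hD : Nat.card ↥(Q : Subgroup C) = Nat.card (E.subgroupOf (Q : Subgroup C)) ^ 3)
    (hrad : ∀ la : (E.subgroupOf (Q : Subgroup C)) →* ℂ, la ≠ 1 → h.rad la = E.subgroupOf (Q : Subgroup C))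
    (hO : ∀ N : Subgroup (C ⧸ E), N.Normal → Odd (Nat.card N) → N = ⊥) : Group.IsSolvable C := by
  classical
  haveI := fact2
  have hcE : Nat.card (E.subgroupOf (Q : Subgroup C)) = Nat.card E :=
    Nat.card_congr (Subgroup.subgroupOfEquivOfLe hEQ).toEquiv
  set π := QuotientGroup.mk' E with hπ
  have hπs : Function.Surjective π := QuotientGroup.mk'_surjective E
  set V : Sylow 2 (C ⧸ E) := Q.mapSurjective hπs with hVdef
  have hVc : (V : Subgroup (C ⧸ E)) = (Q : Subgroup C).map π := Sylow.coe_mapSurjective hπs Q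
  have hmem : ∀ v, v ∈ V ↔ ∃ x ∈ Q, π x = v := by
    intro v
    change v ∈ (V : Subgroup (C ⧸ E)) ↔ _
    rw [hVc, Subgroup.mem_map]; rfl
  have hker : ∀ x : C, π x = 1 ↔ x ∈ E := fun x => by
    rw [hπ]; exact QuotientGroup.eq_one_iff x
  have hcomap : (V : Subgroup (C ⧸ E)).comap π = Q := by
    rw [hVc]
    apply Subgroup.comap_map_eq_self
    rw [hπ, QuotientGroup.ker_mk']; exact hEQ
  have hQmem : ∀ x : C, π x ∈ V ↔ x ∈ Q := by
    intro x
    have : x ∈ (V : Subgroup (C ⧸ E)).comap π ↔ x ∈ (Q : Subgroup C) := by rw [hcomap]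
    exact this
  have hsqE : ∀ x ∈ Q, x * x ∈ E := fun x hx => h.h4 ⟨x, hx⟩
  have hV : ∀ x ∈ V, x * x = 1 := by
    intro v hv
    obtain ⟨x, hx, rfl⟩ := (hmem v).1 hv
    rw [← map_mul, hker]; exact hsqE x hx
  have h8 : 8 ≤ Nat.card V := by
    have h1 := card_comap_mk E (V : Subgroup (C ⧸ E))
    rw [← hπ, hcomap] at h1
    have h2 : Nat.card (V : Subgroup (C ⧸ E)) = Nat.card E ^ 2 := by
      have h3 : 0 < Nat.card E := Nat.card_pos
      apply Nat.eq_of_mul_eq_mul_left h3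
      rw [← h1]
      have : Nat.card ↥(Q : Subgroup C) = Nat.card E ^ 3 := by rw [hD, hcE]
      rw [this]; ring
    have h3 : Nat.card V = Nat.card E ^ 2 := h2
    rw [h3]
    nlinarith
  have hnor : (V : Subgroup (C ⧸ E)).Normal := by
    refine Cfsg.Agent.H34.Pyr.cs2 V hV h8 hO ?_ ?_
    · intro xb hxb hodd vb hvb hvb1 hcomm wb hwb
      obtain ⟨x, rfl⟩ := hπs xb
      have hxn : x ∈ normalizer ((Q : Subgroup C) : Set C) := by
        rw [Subgroup.mem_normalizer_iff] at hxb ⊢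
        intro y
        have h1 := hxb (π y)
        rw [← map_inv, ← map_mul, ← map_mul] at h1
        have h2 := hQmem y
        have h3 := hQmem (x * y * x⁻¹)
        exact ⟨fun hy => h3.1 (h1.1 (h2.2 hy)), fun hy => h2.1 (h1.2 (h3.2 hy))⟩
      set σ : MulAut ↥(Q : Subgroup C) := (Q : Subgroup C).normalizerMonoidHom ⟨x, hxn⟩ with hσ
      have hσa : ∀ y : ↥(Q : Subgroup C), ((σ y : ↥(Q : Subgroup C)) : C) = x * y * x⁻¹ := fun y => rfl
      have hσp : ∀ (k : ℕ) (y : ↥(Q : Subgroup C)), (((σ ^ k) y : ↥(Q : Subgroup C)) : C) = x ^ k * y * (x ^ k)⁻¹ := by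
        intro k y
        induction k with
        | zero => simp
        | succ k ih => rw [pow_succ', MulAut.mul_apply, hσa, ih, pow_succ']; group
      have hxE : x ^ orderOf (π x) ∈ E := by rw [← hker, map_pow, pow_orderOf_eq_one]
      obtain ⟨v, hv, rfl⟩ := (hmem vb).1 hvb
      obtain ⟨w, hw, rfl⟩ := (hmem wb).1 hwb
      have key := h.fpf hD hrad σ (fun e he => by
          apply Subtype.ext
          have h0 : (e : C) * x = x * (e : C) := hEc _ he x
          rw [hσa, ← h0]; group) hodd (fun y => by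
          apply Subtype.ext
          rw [hσp, hEc _ hxE]; group) (v := ⟨v, hv⟩) (fun hvE => hvb1 ((hker v).2 hvE)) (by
          change (v⁻¹ * ((σ ⟨v, hv⟩ : ↥(Q : Subgroup C)) : C)) ∈ E
          rw [hσa, ← hker]
          simp only [map_mul, map_inv]
          rw [hcomm]; group) ⟨w, hw⟩
      have h5 : (w⁻¹ * (x * w * x⁻¹) : C) ∈ E := key
      rw [← hker] at h5
      simp only [map_mul, map_inv] at h5
      have h6 : π x * π w * (π x)⁻¹ = π w := by
        rw [inv_mul_eq_one] at h5; exact h5.symm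
      exact mul_inv_eq_iff_eq_mul.1 h6
    · obtain ⟨e1, he1, e2, he2, h12⟩ : ∃ e1 : E, e1 ≠ 1 ∧ ∃ e2 : E, e2 ≠ 1 ∧ e1 ≠ e2 := by
        have h2 : 2 < Nat.card E := by omega
        haveI : Fintype E := Fintype.ofFinite E
        rw [Nat.card_eq_fintype_card] at h2
        obtain ⟨a, b, c, hab, hac, hbc⟩ := Fintype.two_lt_card_iff.1 h2
        by_cases ha : a = 1
        · exact ⟨b, fun hb => hab (ha.trans hb.symm), c, fun hc => hac (ha.trans hc.symm), hbc⟩
        · by_cases hb : b = 1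
          · exact ⟨a, ha, c, fun hc => hbc (hb.trans hc.symm), hac⟩
          · exact ⟨a, ha, b, hb, hab⟩
      have hroot : ∀ e : E, e ≠ 1 → ∃ x ∈ Q, x * x = (e : C) := by
        intro e he
        have h1 := hs ⟨(e : C), hEQ e.2⟩ e.2 (fun h' => he (Subtype.ext (congrArg (fun z : ↥(Q : Subgroup C) => (z : C)) h')))
        have h2 : 0 < Nat.card {x : ↥(Q : Subgroup C) // x * x = ⟨(e : C), hEQ e.2⟩} := by
          rw [h1]; rw [hcE]; positivity
        obtain ⟨⟨x, hx⟩⟩ := (Nat.card_pos_iff.1 h2).1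
        exact ⟨x, x.2, congrArg Subtype.val hx⟩
      obtain ⟨x1, hx1, hx1e⟩ := hroot e1 he1
      obtain ⟨x2, hx2, hx2e⟩ := hroot e2 he2
      have hne : ∀ (x : C) (e : E), x * x = (e : C) → e ≠ 1 → π x ≠ 1 := by
        intro x e hxe he hx
        rw [hker, hE, hxe] at hx
        exact he (Subtype.ext hx)
      refine ⟨π x1, (hmem _).2 ⟨x1, hx1, rfl⟩, π x2, (hmem _).2 ⟨x2, hx2, rfl⟩, hne x1 e1 hx1e he1, hne x2 e2 hx2e he2, ?_⟩
      intro hcj
      obtain ⟨gb, hg⟩ := isConj_iff.1 hcj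
      obtain ⟨g, rfl⟩ := hπs gb
      rw [← map_inv, ← map_mul, ← map_mul] at hg
      have h5 : x2⁻¹ * (g * x1 * g⁻¹) ∈ E := by rw [← hker, map_mul, hg, map_inv]; group
      apply h12
      apply Subtype.ext
      have h6 : g * x1 * g⁻¹ = x2 * (x2⁻¹ * (g * x1 * g⁻¹)) := by group
      have h7 : (g * x1 * g⁻¹) * (g * x1 * g⁻¹) = x2 * x2 := by
        rw [h6]
        calc x2 * (x2⁻¹ * (g * x1 * g⁻¹)) * (x2 * (x2⁻¹ * (g * x1 * g⁻¹)))
            = x2 * ((x2⁻¹ * (g * x1 * g⁻¹)) * x2) * (x2⁻¹ * (g * x1 * g⁻¹)) := by group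
          _ = x2 * x2 * ((x2⁻¹ * (g * x1 * g⁻¹)) * (x2⁻¹ * (g * x1 * g⁻¹))) := by
              rw [hEc _ h5 x2]; group
          _ = x2 * x2 := by rw [(hE _).1 h5, mul_one]
      rw [← hx1e, ← hx2e, ← h7]
      have h8 : g * x1 * g⁻¹ * (g * x1 * g⁻¹) = g * (x1 * x1) * g⁻¹ := by group
      rw [h8, ← hEc _ (hsqE x1 hx1) g]; group
  exact solv_of_central E hEc (solv_of_normal_sylow V hnor)

end Cfsg.Agent.H29.Pyr
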